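import Mathlib.RingTheory.Filtration
import Mathlib.RingTheory.Flat.Basic

/-!
# Artin–Rees constants and congruent complexes
-/

universe u

namespace Groth.Agent.CAlgCongrAR

variable {A : Type u} [CommRing A] (I : Ideal A) {L M N : Type u} [AddCommGroup L] [Module A L]
  [AddCommGroup M] [Module A M] [AddCommGroup N] [Module A N]

/-- A map congruent to zero modulo `I^{c+1}` raises the filtration by `c + 1`. -/
theorem sub_mem {g g' : M →ₗ[A] N} {c : ℕ} (h : ∀ y, g y - g' y ∈ I ^ (c + 1) • (⊤ : Submodule A N))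
    {k : ℕ} {a : M} (ha : a ∈ I ^ k • (⊤ : Submodule A M)) :
    g a - g' a ∈ I ^ (k + c + 1) • (⊤ : Submodule A N) := by
  have hle : Submodule.map (g - g') (⊤ : Submodule A M) ≤ I ^ (c + 1) • ⊤ := by
    rintro _ ⟨y, -, rfl⟩
    exact h y
  have h2 : (g - g') a ∈ I ^ k • I ^ (c + 1) • (⊤ : Submodule A N) := by
    have := Submodule.mem_map_of_mem (f := g - g') ha
    rw [Submodule.map_smul''] at this
    exact Submodule.smul_mono le_rfl hle this
  rw [← Submodule.mul_smul, ← pow_add, ← add_assoc] at h2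
  exact h2

variable {f f' : L →ₗ[A] M} {g g' : M →ₗ[A] N} {c : ℕ}

theorem exists_sub_mem (hgf' : g'.comp f' = 0)
    (hf : ∀ n : ℕ, c ≤ n → LinearMap.range f ⊓ (I ^ n • (⊤ : Submodule A M)) ≤ Submodule.map f (I ^ (n - c) • (⊤ : Submodule A L)))
    (hg : ∀ n : ℕ, c ≤ n → LinearMap.range g ⊓ (I ^ n • (⊤ : Submodule A N)) ≤ Submodule.map g (I ^ (n - c) • (⊤ : Submodule A M)))
    (hex : Function.Exact f g)
    (hff' : ∀ x : L, f x - f' x ∈ I ^ (c + 1) • (⊤ : Submodule A M))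
    (hgg' : ∀ y : M, g y - g' y ∈ I ^ (c + 1) • (⊤ : Submodule A N)) :
    ∀ (k : ℕ) (a : M), g' a ∈ I ^ (k + c) • (⊤ : Submodule A N) →
      ∃ l, a - f' l ∈ I ^ k • (⊤ : Submodule A M) := by
  intro k
  induction k with
  | zero => intro a _; exact ⟨0, by simp⟩
  | succ k ih =>
    intro a ha
    obtain ⟨l₀, hl₀⟩ := ih a (Submodule.smul_mono_left (Ideal.pow_le_pow_right (by omega)) ha)
    set a₁ := a - f' l₀ with ha₁
    have hg'a₁ : g' a₁ = g' a := by
      rw [ha₁, map_sub, ← LinearMap.comp_apply, hgf', LinearMap.zero_apply, sub_zero]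
    have h1 : g a₁ ∈ I ^ (k + 1 + c) • (⊤ : Submodule A N) := by
      have h2 := sub_mem I hgg' hl₀
      rw [show k + c + 1 = k + 1 + c by omega] at h2
      have h3 := add_mem h2 (hg'a₁ ▸ ha : g' a₁ ∈ I ^ (k + 1 + c) • (⊤ : Submodule A N))
      rwa [sub_add_cancel] at h3
    obtain ⟨b, hb, hgb⟩ := hg (k + 1 + c) (by omega) ⟨⟨a₁, rfl⟩, h1⟩
    rw [Nat.add_sub_cancel] at hb
    obtain ⟨l, hl⟩ := (hex (a₁ - b)).1 (by rw [map_sub, hgb, sub_self])
    have hflk : f l ∈ I ^ k • (⊤ : Submodule A M) := by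
      rw [hl]
      exact sub_mem_of_le hl₀ hb
    obtain ⟨l', hl', hdiff⟩ : ∃ l', f l' = f l ∧ f l' - f' l' ∈ I ^ (k + 1) • (⊤ : Submodule A M) := by
      rcases le_or_gt c k with hck | hck
      · obtain ⟨l', hl', hfl'⟩ := hf k hck ⟨⟨l, rfl⟩, hflk⟩
        refine ⟨l', hfl', ?_⟩
        have h4 := sub_mem I hff' hl'
        rwa [show k - c + c + 1 = k + 1 by omega] at h4
      · exact ⟨l, rfl, Submodule.smul_mono_left (Ideal.pow_le_pow_right (by omega)) (hff' l)⟩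
    refine ⟨l₀ + l', ?_⟩
    have h5 : a - f' (l₀ + l') = b + (f l' - f' l') := by
      rw [hl', hl, map_add, ha₁]
      abel
    rw [h5]
    exact add_mem hb hdiff
where
  sub_mem_of_le {k : ℕ} {x y : M} (hx : x ∈ I ^ k • (⊤ : Submodule A M))
      (hy : y ∈ I ^ (k + 1) • (⊤ : Submodule A M)) : x - y ∈ I ^ k • (⊤ : Submodule A M) :=
    (I ^ k • (⊤ : Submodule A M)).sub_mem hx (Submodule.smul_mono_left (Ideal.pow_le_pow_right (Nat.le_succ k)) hy)

theorem works_and_exact [IsNoetherianRing A] (hI : I ≤ Ideal.jacobson (⊥ : Ideal A)) [Module.Finite A M]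
    (hgf' : g'.comp f' = 0)
    (hf : ∀ n : ℕ, c ≤ n → LinearMap.range f ⊓ (I ^ n • (⊤ : Submodule A M)) ≤ Submodule.map f (I ^ (n - c) • (⊤ : Submodule A L)))
    (hg : ∀ n : ℕ, c ≤ n → LinearMap.range g ⊓ (I ^ n • (⊤ : Submodule A N)) ≤ Submodule.map g (I ^ (n - c) • (⊤ : Submodule A M)))
    (hex : Function.Exact f g)
    (hff' : ∀ x : L, f x - f' x ∈ I ^ (c + 1) • (⊤ : Submodule A M))
    (hgg' : ∀ y : M, g y - g' y ∈ I ^ (c + 1) • (⊤ : Submodule A N)) :
    (∀ n : ℕ, c ≤ n → LinearMap.range g' ⊓ (I ^ n • (⊤ : Submodule A N)) ≤ Submodule.map g' (I ^ (n - c) • (⊤ : Submodule A M))) ∧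
    Function.Exact f' g' := by
  have key := exists_sub_mem I hgf' hf hg hex hff' hgg'
  have hzero : ∀ l, g' (f' l) = 0 := fun l => by rw [← LinearMap.comp_apply, hgf', LinearMap.zero_apply]
  refine ⟨?_, fun a => ⟨fun ha => ?_, ?_⟩⟩
  · rintro n hn y ⟨⟨a, rfl⟩, hy⟩
    obtain ⟨l, hl⟩ := key (n - c) a (by rw [Nat.sub_add_cancel hn]; exact hy)
    exact ⟨a - f' l, hl, by rw [map_sub, hzero, sub_zero]⟩
  · let Q := M ⧸ LinearMap.range f'
    have hmem : (LinearMap.range f').mkQ a ∈ (⨅ i : ℕ, I ^ i • (⊤ : Submodule A Q)) := by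
      refine Submodule.mem_iInf _ |>.2 fun k => ?_
      obtain ⟨l, hl⟩ := key k a (by rw [ha]; exact zero_mem _)
      have h1 := Submodule.mem_map_of_mem (f := (LinearMap.range f').mkQ) hl
      rw [Submodule.map_smul'', Submodule.map_top, Submodule.range_mkQ, map_sub,
        Submodule.mkQ_apply _ (f' l), (Submodule.Quotient.mk_eq_zero _).2 (LinearMap.mem_range_self _ l), sub_zero] at h1
      exact h1
    rw [Ideal.iInf_pow_smul_eq_bot_of_le_jacobson I hI, Submodule.mem_bot, Submodule.mkQ_apply,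
      Submodule.Quotient.mk_eq_zero] at hmem
    exact hmem
  · rintro ⟨l, rfl⟩
    exact hzero l

theorem coker_filtration_eq (hgf' : g'.comp f' = 0)
    (hf : ∀ n : ℕ, c ≤ n → LinearMap.range f ⊓ (I ^ n • (⊤ : Submodule A M)) ≤ Submodule.map f (I ^ (n - c) • (⊤ : Submodule A L)))
    (hg : ∀ n : ℕ, c ≤ n → LinearMap.range g ⊓ (I ^ n • (⊤ : Submodule A N)) ≤ Submodule.map g (I ^ (n - c) • (⊤ : Submodule A M)))
    (hex : Function.Exact f g)
    (hff' : ∀ x : L, f x - f' x ∈ I ^ (c + 1) • (⊤ : Submodule A M))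
    (hgg' : ∀ y : M, g y - g' y ∈ I ^ (c + 1) • (⊤ : Submodule A N)) (n : ℕ) :
    I ^ (n + 1) • (⊤ : Submodule A N) ⊔ (LinearMap.range g ⊓ I ^ n • (⊤ : Submodule A N)) =
      I ^ (n + 1) • (⊤ : Submodule A N) ⊔ (LinearMap.range g' ⊓ I ^ n • (⊤ : Submodule A N)) := by
  have hzero : ∀ l, g' (f' l) = 0 := fun l => by rw [← LinearMap.comp_apply, hgf', LinearMap.zero_apply]
  -- representatives with small difference
  have small : ∀ (a : M), a ∈ I ^ (n - c) • (⊤ : Submodule A M) → g a - g' a ∈ I ^ (n + 1) • (⊤ : Submodule A N) := fun a ha => by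
    exact Submodule.smul_mono_left (Ideal.pow_le_pow_right (by omega)) (sub_mem I hgg' ha)
  apply le_antisymm <;> refine sup_le le_sup_left ?_
  · rintro y ⟨⟨a₀, rfl⟩, hy⟩
    obtain ⟨a, ha, hga⟩ : ∃ a ∈ I ^ (n - c) • (⊤ : Submodule A M), g a = g a₀ := by
      rcases le_or_gt c n with hcn | hcn
      · exact hg n hcn ⟨⟨a₀, rfl⟩, hy⟩
      · exact ⟨a₀, by simp [Nat.sub_eq_zero_of_le hcn.le], rfl⟩
    rw [← hga] at hy ⊢
    have hd := small a ha
    refine Submodule.mem_sup.2 ⟨g a - g' a, hd, g' a, ⟨⟨a, rfl⟩, ?_⟩, sub_add_cancel _ _⟩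
    have := (I ^ n • (⊤ : Submodule A N)).sub_mem hy (Submodule.smul_mono_left (Ideal.pow_le_pow_right (Nat.le_succ n)) hd)
    rwa [sub_sub_cancel] at this
  · rintro y ⟨⟨a₀, rfl⟩, hy⟩
    obtain ⟨a, ha, hga⟩ : ∃ a ∈ I ^ (n - c) • (⊤ : Submodule A M), g' a = g' a₀ := by
      rcases le_or_gt c n with hcn | hcn
      · obtain ⟨l, hl⟩ := exists_sub_mem I hgf' hf hg hex hff' hgg' (n - c) a₀ (by rw [Nat.sub_add_cancel hcn]; exact hy)
        exact ⟨a₀ - f' l, hl, by rw [map_sub, hzero, sub_zero]⟩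
      · exact ⟨a₀, by simp [Nat.sub_eq_zero_of_le hcn.le], rfl⟩
    rw [← hga] at hy ⊢
    have hd := small a ha
    refine Submodule.mem_sup.2 ⟨-(g a - g' a), neg_mem hd, g a, ⟨⟨a, rfl⟩, ?_⟩, by abel⟩
    have := (I ^ n • (⊤ : Submodule A N)).add_mem hy (Submodule.smul_mono_left (Ideal.pow_le_pow_right (Nat.le_succ n)) hd)
    rwa [add_sub_cancel] at this

end Groth.Agent.CAlgCongrAR
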